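import Mathlib
import Cfsg.Prelude.Def_Sporadic_a

/-!
# Projective planes of order 4: independent sets and hyperovals
-/

namespace Cfsg.Agent.Plane4

open Finset

variable {α : Type*} [Fintype α] [DecidableEq α]

/-- A Steiner system `S(2, 5, 21)`. -/
structure IsPlane (L : Set (Finset α)) : Prop where
  card : Fintype.card α = 21
  steiner : Cfsg.IsSteinerSystem 2 5 L

/-- Independence. -/
def Indep (L : Set (Finset α)) (S : Finset α) : Prop := ∀ l ∈ L, (l ∩ S).card ≤ 2

namespace IsPlane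

variable {L : Set (Finset α)} (P : IsPlane L)
include P

/-- The line through two points. -/
noncomputable def ln (a b : α) : Finset α :=
  if h : a = b then ∅ else (P.steiner.2 {a, b} (card_pair h)).choose

theorem ln_spec {a b : α} (h : a ≠ b) : P.ln a b ∈ L ∧ a ∈ P.ln a b ∧ b ∈ P.ln a b := by
  rw [ln, dif_neg h]
  obtain ⟨h1, h2⟩ := (P.steiner.2 {a, b} (card_pair h)).choose_spec.1
  exact ⟨h1, h2 (by simp), h2 (by simp)⟩

theorem eq_ln {l : Finset α} (hl : l ∈ L) {a b : α} (h : a ≠ b) (ha : a ∈ l) (hb : b ∈ l) :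
    l = P.ln a b := by
  rw [ln, dif_neg h]
  refine (P.steiner.2 {a, b} (card_pair h)).choose_spec.2 l ⟨hl, ?_⟩
  intro x hx
  rcases mem_insert.1 hx with rfl | hx
  · exact ha
  · rw [mem_singleton.1 hx]; exact hb

theorem card_line {l : Finset α} (hl : l ∈ L) : l.card = 5 := P.steiner.1 l hl

theorem ln_comm {a b : α} (h : a ≠ b) : P.ln a b = P.ln b a :=
  P.eq_ln (P.ln_spec h).1 h.symm (P.ln_spec h).2.2 (P.ln_spec h).2.1

theorem eq_of_mem {l m : Finset α} (hl : l ∈ L) (hm : m ∈ L) (hne : l ≠ m) {a b : α}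
    (ha : a ∈ l) (ha' : a ∈ m) (hb : b ∈ l) (hb' : b ∈ m) : a = b := by
  by_contra h
  exact hne ((P.eq_ln hl h ha hb).trans (P.eq_ln hm h ha' hb').symm)

theorem inter_le {l m : Finset α} (hl : l ∈ L) (hm : m ∈ L) (hne : l ≠ m) : (l ∩ m).card ≤ 1 :=
  card_le_one.2 fun _ ha _ hb =>
    P.eq_of_mem hl hm hne (mem_inter.1 ha).1 (mem_inter.1 ha).2 (mem_inter.1 hb).1 (mem_inter.1 hb).2

/-- The pencil at a point. -/
noncomputable def pencil (p : α) : Finset (Finset α) := (univ.erase p).image fun x => P.ln p x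

theorem mem_pencil {p : α} {l : Finset α} : l ∈ P.pencil p ↔ l ∈ L ∧ p ∈ l := by
  simp only [pencil, mem_image, mem_erase, mem_univ, and_true]
  constructor
  · rintro ⟨x, hx, rfl⟩
    exact ⟨(P.ln_spec (Ne.symm hx)).1, (P.ln_spec (Ne.symm hx)).2.1⟩
  · rintro ⟨hl, hp⟩
    obtain ⟨x, hx, hxp⟩ := exists_mem_ne (s := l) (by rw [P.card_line hl]; norm_num) p
    exact ⟨x, hxp, (P.eq_ln hl (Ne.symm hxp) hp hx).symm⟩

theorem card_pencil (p : α) : (P.pencil p).card = 5 := by
  have h := card_eq_sum_card_image (fun x => P.ln p x) (univ.erase p)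
  have h4 : ∀ l ∈ P.pencil p, ((univ.erase p).filter fun x => P.ln p x = l).card = 4 := by
    intro l hl
    obtain ⟨hlL, hpl⟩ := P.mem_pencil.1 hl
    have : ((univ.erase p).filter fun x => P.ln p x = l) = l.erase p := by
      ext x
      simp only [mem_filter, mem_erase, mem_univ, and_true]
      constructor
      · rintro ⟨hx, rfl⟩; exact ⟨hx, (P.ln_spec (Ne.symm hx)).2.2⟩
      · rintro ⟨hx, hxl⟩; exact ⟨hx, (P.eq_ln hlL (Ne.symm hx) hpl hxl).symm⟩
    rw [this, card_erase_of_mem hpl, P.card_line hlL]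
  rw [card_erase_of_mem (mem_univ p), card_univ, P.card] at h
  have h' : (20 : ℕ) = ∑ l ∈ P.pencil p, 4 := h.trans (sum_congr rfl h4)
  rw [sum_const, smul_eq_mul] at h'
  omega

theorem meet {l m : Finset α} (hl : l ∈ L) (hm : m ∈ L) : ∃ x, x ∈ l ∧ x ∈ m := by
  obtain ⟨p, hp⟩ := card_pos.1 (show 0 < m.card by rw [P.card_line hm]; norm_num)
  by_cases hpl : p ∈ l
  · exact ⟨p, hpl, hp⟩
  have hsub : (l.image fun x => P.ln p x) ⊆ P.pencil p := by
    intro k hk
    obtain ⟨x, hx, rfl⟩ := mem_image.1 hk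
    have hne : p ≠ x := fun e => hpl (e ▸ hx)
    exact P.mem_pencil.2 ⟨(P.ln_spec hne).1, (P.ln_spec hne).2.1⟩
  have hinj : Set.InjOn (fun x => P.ln p x) (l : Set α) := by
    intro x hx y hy e
    have e' : P.ln p x = P.ln p y := e
    by_contra hne
    have hpx : p ≠ x := fun h => hpl (h ▸ hx)
    have hpy : p ≠ y := fun h => hpl (h ▸ hy)
    have hneq : P.ln p x ≠ l := fun h => hpl (h ▸ (P.ln_spec hpx).2.1)
    exact hne (P.eq_of_mem (P.ln_spec hpx).1 hl hneq (P.ln_spec hpx).2.2 hx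
      (by rw [e']; exact (P.ln_spec hpy).2.2) hy)
  have heq := eq_of_subset_of_card_le hsub (by rw [card_image_of_injOn hinj, P.card_line hl, P.card_pencil])
  obtain ⟨x, hx, hxe⟩ := mem_image.1 (heq.ge (P.mem_pencil.2 ⟨hm, hp⟩))
  exact ⟨x, hx, hxe ▸ (P.ln_spec (a := p) (b := x) fun e => hpl (e ▸ hx)).2.2⟩

theorem meet_card {l m : Finset α} (hl : l ∈ L) (hm : m ∈ L) (hne : l ≠ m) : (l ∩ m).card = 1 := by
  obtain ⟨x, h1, h2⟩ := P.meet hl hm
  exact le_antisymm (P.inter_le hl hm hne) (card_pos.2 ⟨x, mem_inter.2 ⟨h1, h2⟩⟩)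

theorem indep_insert {S : Finset α} {x : α} (hS : Indep L S) (hx : x ∉ S) :
    Indep L (insert x S) ↔ ∀ a ∈ S, ∀ b ∈ S, a ≠ b → x ∉ P.ln a b := by
  constructor
  · intro h a ha b hb hab hxl
    have h3 : ({a, b, x} : Finset α) ⊆ P.ln a b ∩ insert x S := by
      intro y hy
      simp only [mem_insert, mem_singleton] at hy
      rcases hy with rfl | rfl | rfl
      · exact mem_inter.2 ⟨(P.ln_spec hab).2.1, mem_insert_of_mem ha⟩
      · exact mem_inter.2 ⟨(P.ln_spec hab).2.2, mem_insert_of_mem hb⟩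
      · exact mem_inter.2 ⟨hxl, mem_insert_self _ _⟩
    have := (card_le_card h3).trans (h _ (P.ln_spec hab).1)
    rw [card_insert_of_notMem (by simp [hab, (ne_of_mem_of_not_mem ha hx)]),
      card_insert_of_notMem (by simp [ne_of_mem_of_not_mem hb hx]), card_singleton] at this
    omega
  · intro h l hl
    by_cases hxl : x ∈ l
    · have hle : (l ∩ S).card ≤ 1 := card_le_one.2 fun a ha b hb => by
        rw [mem_inter] at ha hb
        by_contra hab
        exact h a ha.2 b hb.2 hab (P.eq_ln hl hab ha.1 hb.1 ▸ hxl)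
      rw [inter_insert_of_mem hxl, card_insert_of_notMem (fun h' => hx (mem_inter.1 h').2)]
      omega
    · rw [inter_insert_of_notMem hxl]; exact hS l hl

omit P in
theorem indep_mono {S T : Finset α} (h : Indep L T) (hST : S ⊆ T) : Indep L S := fun l hl =>
  (card_le_card (inter_subset_inter Subset.rfl hST)).trans (h l hl)

omit P in
theorem indep_small {S : Finset α} (hS : S.card ≤ 2) : Indep L S := fun _ _ =>
  (card_le_card inter_subset_right).trans hS

/-- The points extending an independent set. -/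
noncomputable def ext (S : Finset α) : Finset α :=
  univ.filter fun x => x ∉ S ∧ ∀ a ∈ S, ∀ b ∈ S, a ≠ b → x ∉ P.ln a b

theorem mem_ext {S : Finset α} (hS : Indep L S) {x : α} :
    x ∈ P.ext S ↔ x ∉ S ∧ Indep L (insert x S) := by
  simp only [ext, mem_filter, mem_univ, true_and]
  exact and_congr_right fun hx => (P.indep_insert hS hx).symm

theorem third_not_mem {a b c : α} (hS : Indep L {a, b, c}) (hab : a ≠ b) (hac : a ≠ c) (hbc : b ≠ c) :
    c ∉ P.ln a b := by
  intro h
  have hsub : ({a, b, c} : Finset α) ⊆ P.ln a b ∩ {a, b, c} := by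
    intro y hy
    refine mem_inter.2 ⟨?_, hy⟩
    simp only [mem_insert, mem_singleton] at hy
    rcases hy with rfl | rfl | rfl
    exacts [(P.ln_spec hab).2.1, (P.ln_spec hab).2.2, h]
  have := (card_le_card hsub).trans (hS _ (P.ln_spec hab).1)
  rw [card_insert_of_notMem (by simp [hab, hac]), card_insert_of_notMem (by simp [hbc]), card_singleton] at this
  omega

theorem card_ext_one {S : Finset α} (hS : S.card = 1) : (P.ext S).card = 20 := by
  obtain ⟨a, rfl⟩ := card_eq_one.1 hS
  have : P.ext {a} = univ.erase a := by ext x; simp +contextual [ext]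
  rw [this, card_erase_of_mem (mem_univ a), card_univ, P.card]

theorem card_ext_two {S : Finset α} (hS : S.card = 2) : (P.ext S).card = 16 := by
  obtain ⟨a, b, hab, rfl⟩ := card_eq_two.1 hS
  have : P.ext {a, b} = (P.ln a b)ᶜ := by
    ext x
    simp only [ext, mem_filter, mem_univ, true_and, mem_compl, mem_insert, mem_singleton]
    constructor
    · exact fun h => h.2 a (Or.inl rfl) b (Or.inr rfl) hab
    · intro h
      refine ⟨fun e => ?_, ?_⟩
      · rcases e with rfl | rfl
        · exact h (P.ln_spec hab).2.1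
        · exact h (P.ln_spec hab).2.2
      · rintro u (rfl | rfl) v (rfl | rfl) huv
        exacts [absurd rfl huv, h, P.ln_comm hab ▸ h, absurd rfl huv]
  rw [this, card_compl, P.card, P.card_line (P.ln_spec hab).1]

theorem card_ext_three {S : Finset α} (hS : S.card = 3) (hI : Indep L S) : (P.ext S).card = 9 := by
  obtain ⟨a, b, c, hab, hac, hbc, rfl⟩ := card_eq_three.1 hS
  have hc := P.third_not_mem hI hab hac hbc
  have hb : b ∉ P.ln a c := P.third_not_mem (indep_mono hI (by intro y; simp; tauto)) hac hab hbc.symm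
  obtain ⟨h1, h1a, h1b⟩ := P.ln_spec hab
  obtain ⟨h2, h2a, h2c⟩ := P.ln_spec hac
  obtain ⟨h3, h3b, h3c⟩ := P.ln_spec hbc
  set l₁ := P.ln a b with hl₁
  set l₂ := P.ln a c with hl₂
  set l₃ := P.ln b c with hl₃
  have n12 : l₁ ≠ l₂ := fun e => hc (e ▸ h2c)
  have n13 : l₁ ≠ l₃ := fun e => hc (e ▸ h3c)
  have n23 : l₂ ≠ l₃ := fun e => hb (e ▸ h3b)
  have heq : P.ext {a, b, c} = (l₁ ∪ l₂ ∪ l₃)ᶜ := by
    ext x
    simp only [ext, mem_filter, mem_univ, true_and, mem_compl, mem_union, mem_insert, mem_singleton, not_or]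
    constructor
    · intro h
      exact ⟨⟨h.2 a (Or.inl rfl) b (Or.inr (Or.inl rfl)) hab,
        h.2 a (Or.inl rfl) c (Or.inr (Or.inr rfl)) hac⟩,
        h.2 b (Or.inr (Or.inl rfl)) c (Or.inr (Or.inr rfl)) hbc⟩
    · rintro ⟨⟨x1, x2⟩, x3⟩
      refine ⟨⟨fun e => x1 (e ▸ h1a), fun e => x1 (e ▸ h1b), fun e => x2 (e ▸ h2c)⟩, ?_⟩
      rintro u (rfl | rfl | rfl) v (rfl | rfl | rfl) huv
      all_goals first
        | exact absurd rfl huv
        | exact x1
        | exact x2
        | exact x3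
        | (rw [P.ln_comm huv]; first | exact x1 | exact x2 | exact x3)
  have c12 := P.meet_card h1 h2 n12
  have e12 : (l₁ ∪ l₂).card = 9 := by
    have := card_union_add_card_inter l₁ l₂
    rw [c12, P.card_line h1, P.card_line h2] at this; omega
  have e3 : ((l₁ ∪ l₂) ∩ l₃).card = 2 := by
    have : (l₁ ∪ l₂) ∩ l₃ = {b, c} := by
      ext x
      simp only [mem_inter, mem_union, mem_insert, mem_singleton]
      constructor
      · rintro ⟨hx | hx, hx3⟩
        · exact Or.inl (P.eq_of_mem h1 h3 n13 hx hx3 h1b h3b)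
        · exact Or.inr (P.eq_of_mem h2 h3 n23 hx hx3 h2c h3c)
      · rintro (rfl | rfl)
        exacts [⟨Or.inl h1b, h3b⟩, ⟨Or.inr h2c, h3c⟩]
    rw [this, card_pair hbc]
  have e123 : (l₁ ∪ l₂ ∪ l₃).card = 12 := by
    have := card_union_add_card_inter (l₁ ∪ l₂) l₃
    rw [e12, e3, P.card_line h3] at this; omega
  rw [heq, card_compl, P.card, e123]

/-- An independent 4-set has exactly two extension points, and they extend it to a hyperoval. -/
theorem ext_four {S : Finset α} (hS : S.card = 4) (hI : Indep L S) :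
    (P.ext S).card = 2 ∧ Indep L (S ∪ P.ext S) := by
  -- two tangents at each point, each carrying exactly one extension point
  have htan : ∀ a ∈ S, ∃ T : Finset (Finset α), T.card = 2 ∧
      (∀ l ∈ T, l ∈ L ∧ a ∈ l ∧ (P.ext S ∩ l).card = 1) ∧
      (∀ x ∈ P.ext S, ∃ l ∈ T, x ∈ l) := by
    intro a ha
    set sec := (S.erase a).image fun b => P.ln a b with hsec
    have hsecsub : sec ⊆ P.pencil a := by
      intro l hl
      obtain ⟨b, hb, rfl⟩ := mem_image.1 hl
      exact P.mem_pencil.2 ⟨(P.ln_spec (ne_of_mem_erase hb).symm).1, (P.ln_spec (ne_of_mem_erase hb).symm).2.1⟩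
    have hsinj : Set.InjOn (fun b => P.ln a b) (S.erase a : Set α) := by
      intro b hb c hc e
      simp only [coe_erase, Set.mem_sdiff, mem_coe, Set.mem_singleton_iff] at hb hc
      by_contra hne
      have e' : P.ln a b = P.ln a c := e
      refine P.third_not_mem (indep_mono hI ?_) (Ne.symm hb.2) (Ne.symm hc.2) hne
        (e' ▸ (P.ln_spec (Ne.symm hc.2)).2.2)
      intro y hy
      simp only [mem_insert, mem_singleton] at hy
      rcases hy with rfl | rfl | rfl
      exacts [ha, hb.1, hc.1]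
    refine ⟨P.pencil a \ sec, ?_, ?_, ?_⟩
    · rw [card_sdiff_of_subset hsecsub, P.card_pencil, card_image_of_injOn hsinj, card_erase_of_mem ha, hS]
    · intro l hl
      rw [mem_sdiff, P.mem_pencil] at hl
      obtain ⟨⟨hlL, hal⟩, hns⟩ := hl
      refine ⟨hlL, hal, ?_⟩
      have honly : ∀ y ∈ S, y ∈ l → y = a := fun y hy hyl => by
        by_contra hya
        exact hns (mem_image.2 ⟨y, mem_erase.2 ⟨hya, hy⟩, (P.eq_ln hlL (Ne.symm hya) hal hyl).symm⟩)
      obtain ⟨b, c, d, hbc, hbd, hcd, hE⟩ := card_eq_three.1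
        (show (S.erase a).card = 3 by rw [card_erase_of_mem ha, hS])
      have hb : b ∈ S.erase a := by simp [hE]
      have hc : c ∈ S.erase a := by simp [hE]
      have hd : d ∈ S.erase a := by simp [hE]
      rw [mem_erase] at hb hc hd
      have hsec3 : ∀ u v, u ∈ S → v ∈ S → u ≠ a → v ≠ a → u ≠ v →
          ∃ w, w ∈ l ∧ w ∈ P.ln u v ∧ w ≠ a ∧ ∀ w', w' ∈ l → w' ∈ P.ln u v → w' = w := by
        intro u v hu hv hua hva huv
        obtain ⟨hm, hmu, hmv⟩ := P.ln_spec huv
        have hne : P.ln u v ≠ l := fun e => hua (honly u hu (e ▸ hmu))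
        obtain ⟨w, hw1, hw2⟩ := P.meet hlL hm
        refine ⟨w, hw1, hw2, fun e => ?_, fun w' h1 h2 => P.eq_of_mem hlL hm (Ne.symm hne) h1 h2 hw1 hw2⟩
        subst e
        refine P.third_not_mem (indep_mono hI ?_) huv hua hva hw2
        intro y hy
        simp only [mem_insert, mem_singleton] at hy
        rcases hy with rfl | rfl | rfl
        exacts [hu, hv, ha]
      obtain ⟨w₁, hw₁l, hw₁, hw₁a, hu₁⟩ := hsec3 b c hb.2 hc.2 hb.1 hc.1 hbc
      obtain ⟨w₂, hw₂l, hw₂, hw₂a, hu₂⟩ := hsec3 b d hb.2 hd.2 hb.1 hd.1 hbd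
      obtain ⟨w₃, hw₃l, hw₃, hw₃a, hu₃⟩ := hsec3 c d hc.2 hd.2 hc.1 hd.1 hcd
      have hsep : ∀ u v v' w w', u ∈ S → v ∈ S → v' ∈ S → u ≠ a → u ≠ v → u ≠ v' → v ≠ v' → w ∈ l →
          w ∈ P.ln u v → w' ∈ P.ln u v' → w ≠ w' := by
        intro u v v' w w' hu hv hv' hua huv huv' hvv hwl h1 h2 e
        subst e
        have hne : P.ln u v ≠ P.ln u v' := fun e => by
          refine P.third_not_mem (indep_mono hI ?_) huv huv' hvv (e ▸ (P.ln_spec huv').2.2)
          intro y hy
          simp only [mem_insert, mem_singleton] at hy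
          rcases hy with rfl | rfl | rfl
          exacts [hu, hv, hv']
        have := P.eq_of_mem (P.ln_spec huv).1 (P.ln_spec huv').1 hne h1 h2
          (P.ln_spec huv).2.1 (P.ln_spec huv').2.1
        exact hua (honly u hu (this ▸ hwl))
      have hn12 : w₁ ≠ w₂ := hsep b c d _ _ hb.2 hc.2 hd.2 hb.1 hbc hbd hcd hw₁l hw₁ hw₂
      have hn13 : w₁ ≠ w₃ := hsep c b d _ _ hc.2 hb.2 hd.2 hc.1 hbc.symm hcd hbd hw₁l
        (P.ln_comm hbc ▸ hw₁) hw₃
      have hn23 : w₂ ≠ w₃ := hsep d b c _ _ hd.2 hb.2 hc.2 hd.1 hbd.symm hcd.symm hbc hw₂l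
        (P.ln_comm hbd ▸ hw₂) (P.ln_comm hcd ▸ hw₃)
      have heq : P.ext S ∩ l = l \ {a, w₁, w₂, w₃} := by
        ext x
        simp only [ext, mem_inter, mem_filter, mem_univ, true_and, mem_sdiff, mem_insert, mem_singleton,
          not_or]
        constructor
        · rintro ⟨⟨hxS, hx⟩, hxl⟩
          exact ⟨hxl, fun e => hxS (e ▸ ha), fun e => hx b hb.2 c hc.2 hbc (e ▸ hw₁),
            fun e => hx b hb.2 d hd.2 hbd (e ▸ hw₂), fun e => hx c hc.2 d hd.2 hcd (e ▸ hw₃)⟩
        · rintro ⟨hxl, hxa, hx1, hx2, hx3⟩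
          refine ⟨⟨fun hxS => hxa (honly x hxS hxl), fun u hu v hv huv hxm => ?_⟩, hxl⟩
          by_cases hua : u = a
          · subst hua
            exact hns (mem_image.2 ⟨v, mem_erase.2 ⟨huv.symm, hv⟩,
              (P.eq_ln hlL (Ne.symm hxa) hal hxl).trans
                (P.eq_ln (P.ln_spec huv).1 (Ne.symm hxa) (P.ln_spec huv).2.1 hxm).symm |>.symm⟩)
          by_cases hva : v = a
          · subst hva
            exact hns (mem_image.2 ⟨u, mem_erase.2 ⟨huv, hu⟩,
              ((P.ln_comm huv).symm.trans (P.eq_ln (P.ln_spec huv).1 (Ne.symm hxa) (P.ln_spec huv).2.2 hxm)).trans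
                (P.eq_ln hlL (Ne.symm hxa) hal hxl).symm⟩)
          have hu' : u ∈ ({b, c, d} : Finset α) := hE ▸ mem_erase.2 ⟨hua, hu⟩
          have hv' : v ∈ ({b, c, d} : Finset α) := hE ▸ mem_erase.2 ⟨hva, hv⟩
          simp only [mem_insert, mem_singleton] at hu' hv'
          rcases hu' with rfl | rfl | rfl <;> rcases hv' with rfl | rfl | rfl
          all_goals first
            | exact huv rfl
            | exact hx1 (hu₁ x hxl hxm)
            | exact hx2 (hu₂ x hxl hxm)
            | exact hx3 (hu₃ x hxl hxm)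
            | exact hx1 (hu₁ x hxl (P.ln_comm huv ▸ hxm))
            | exact hx2 (hu₂ x hxl (P.ln_comm huv ▸ hxm))
            | exact hx3 (hu₃ x hxl (P.ln_comm huv ▸ hxm))
      rw [heq, card_sdiff_of_subset (by
          intro y hy
          simp only [mem_insert, mem_singleton] at hy
          rcases hy with rfl | rfl | rfl | rfl <;> assumption),
        P.card_line hlL, card_insert_of_notMem (by simp [hw₁a.symm, hw₂a.symm, hw₃a.symm]),
        card_insert_of_notMem (by simp [hn12, hn13]), card_insert_of_notMem (by simp [hn23]), card_singleton]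
    · intro x hx
      simp only [ext, mem_filter, mem_univ, true_and] at hx
      have hax : a ≠ x := fun e => hx.1 (e ▸ ha)
      refine ⟨P.ln a x, mem_sdiff.2 ⟨P.mem_pencil.2 ⟨(P.ln_spec hax).1, (P.ln_spec hax).2.1⟩, fun h => ?_⟩,
        (P.ln_spec hax).2.2⟩
      obtain ⟨b, hb, hbe⟩ := mem_image.1 h
      exact hx.2 a ha b (mem_of_mem_erase hb) (ne_of_mem_erase hb).symm (by rw [hbe]; exact (P.ln_spec hax).2.2)
  obtain ⟨a, ha⟩ := card_pos.1 (show 0 < S.card by omega)
  have hcard : (P.ext S).card = 2 := by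
    obtain ⟨T, hT, hTl, hTc⟩ := htan a ha
    obtain ⟨l, m, hlm, rfl⟩ := card_eq_two.1 hT
    obtain ⟨hl, hal, hlc⟩ := hTl l (by simp)
    obtain ⟨hm, ham, hmc⟩ := hTl m (by simp)
    have : P.ext S = (P.ext S ∩ l) ∪ (P.ext S ∩ m) := by
      refine Subset.antisymm (fun x hx => ?_) (union_subset inter_subset_left inter_subset_left)
      obtain ⟨k, hk, hxk⟩ := hTc x hx
      rcases mem_insert.1 hk with rfl | hk
      · exact mem_union_left _ (mem_inter.2 ⟨hx, hxk⟩)
      · rw [mem_singleton] at hk; subst hk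
        exact mem_union_right _ (mem_inter.2 ⟨hx, hxk⟩)
    rw [this, card_union_of_disjoint, hlc, hmc]
    rw [disjoint_left]
    intro x hx1 hx2
    rw [mem_inter] at hx1 hx2
    have hxS : x ∉ S := (mem_filter.1 hx1.1).2.1
    exact hxS (P.eq_of_mem hl hm hlm hx1.2 hx2.2 hal ham ▸ ha)
  refine ⟨hcard, ?_⟩
  obtain ⟨u, v, huv, he⟩ := card_eq_two.1 hcard
  rw [he]
  have hu : u ∈ P.ext S := by rw [he]; simp
  have hv : v ∈ P.ext S := by rw [he]; simp
  obtain ⟨huS, huI⟩ := (P.mem_ext hI).1 hu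
  obtain ⟨hvS, hvI⟩ := (P.mem_ext hI).1 hv
  rw [show S ∪ {u, v} = insert v (insert u S) by ext; simp; tauto]
  refine (P.indep_insert huI (by simp [huv.symm, hvS])).2 ?_
  have hmix : ∀ b ∈ S, v ∉ P.ln u b := by
    intro b hb hvl
    obtain ⟨T, -, hTl, hTc⟩ := htan b hb
    obtain ⟨l, hl, hul⟩ := hTc u hu
    have hub : u ≠ b := fun e => huS (e ▸ hb)
    have hl' : l = P.ln u b := P.eq_ln (hTl l hl).1 hub hul (hTl l hl).2.1
    exact huv (card_le_one.1 (hTl l hl).2.2.le u (mem_inter.2 ⟨hu, hul⟩) v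
      (mem_inter.2 ⟨hv, hl' ▸ hvl⟩))
  intro p hp q hq hpq
  by_cases hpu : p = u
  · subst hpu
    exact hmix q ((mem_insert.1 hq).resolve_left (Ne.symm hpq))
  have hpS : p ∈ S := (mem_insert.1 hp).resolve_left hpu
  by_cases hqu : q = u
  · subst hqu
    rw [P.ln_comm hpq]; exact hmix p hpS
  exact (mem_filter.1 hv).2.2 p hpS q ((mem_insert.1 hq).resolve_left hqu) hpq

theorem card_ext_five {S : Finset α} (hS : S.card = 5) (hI : Indep L S) : (P.ext S).card = 1 := by
  obtain ⟨p, hp⟩ := card_pos.1 (show 0 < S.card by omega)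
  have hS4 : (S.erase p).card = 4 := by rw [card_erase_of_mem hp, hS]
  have hI4 : Indep L (S.erase p) := indep_mono hI (erase_subset _ _)
  obtain ⟨h2, hH⟩ := P.ext_four hS4 hI4
  have hpe : p ∈ P.ext (S.erase p) := (P.mem_ext hI4).2 ⟨notMem_erase p S, by rwa [insert_erase hp]⟩
  have : P.ext S = (P.ext (S.erase p)).erase p := by
    ext x
    rw [P.mem_ext hI, mem_erase, P.mem_ext hI4]
    constructor
    · rintro ⟨hx, hxI⟩
      exact ⟨fun e => hx (e ▸ hp), fun h => hx (mem_of_mem_erase h),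
        indep_mono hxI (insert_subset_insert x (erase_subset _ _))⟩
    · rintro ⟨hxp, hx, hxI⟩
      refine ⟨fun h => hx (mem_erase.2 ⟨hxp, h⟩), indep_mono hH ?_⟩
      intro y hy
      rcases mem_insert.1 hy with rfl | hy
      · exact mem_union_right _ ((P.mem_ext hI4).2 ⟨hx, hxI⟩)
      · by_cases hyp : y = p
        · exact mem_union_right _ (hyp ▸ hpe)
        · exact mem_union_left _ (mem_erase.2 ⟨hyp, hy⟩)
  rw [this, card_erase_of_mem hpe, h2]

/-- The family of independent sets of given size. -/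
noncomputable def indepSets (k : ℕ) : Finset (Finset α) :=
  (fun _ : IsPlane L => open scoped Classical in univ.filter fun S => S.card = k ∧ Indep L S) P

theorem mem_indepSets {k : ℕ} {S : Finset α} : S ∈ P.indepSets k ↔ S.card = k ∧ Indep L S := by
  simp [indepSets]

theorem count_step (k e : ℕ) (he : ∀ S, S.card = k → Indep L S → (P.ext S).card = e) :
    (P.indepSets (k + 1)).card * (k + 1) = (P.indepSets k).card * e := by
  classical
  rw [← smul_eq_mul, ← smul_eq_mul, ← sum_const, ← sum_const]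
  calc ∑ _T ∈ P.indepSets (k + 1), (k + 1)
      = ((P.indepSets (k + 1)).sigma fun T => T).card := by
        rw [card_sigma]
        exact sum_congr rfl fun T hT => (P.mem_indepSets.1 hT).1.symm
    _ = ((P.indepSets k).sigma fun S => P.ext S).card := by
        refine card_bij' (fun x _ => ⟨x.1.erase x.2, x.2⟩) (fun x _ => ⟨insert x.2 x.1, x.2⟩) ?_ ?_ ?_ ?_
        · rintro ⟨T, p⟩ hx
          simp only [mem_sigma] at hx ⊢
          obtain ⟨hT, hp⟩ := hx
          obtain ⟨hTc, hTI⟩ := P.mem_indepSets.1 hT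
          have hI : Indep L (T.erase p) := indep_mono hTI (erase_subset _ _)
          exact ⟨P.mem_indepSets.2 ⟨by rw [card_erase_of_mem hp, hTc]; rfl, hI⟩,
            (P.mem_ext hI).2 ⟨notMem_erase p T, by rwa [insert_erase hp]⟩⟩
        · rintro ⟨S, p⟩ hx
          simp only [mem_sigma] at hx ⊢
          obtain ⟨hS, hp⟩ := hx
          obtain ⟨hSc, hSI⟩ := P.mem_indepSets.1 hS
          obtain ⟨hpS, hpI⟩ := (P.mem_ext hSI).1 hp
          exact ⟨P.mem_indepSets.2 ⟨by rw [card_insert_of_notMem hpS, hSc], hpI⟩, mem_insert_self _ _⟩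
        · rintro ⟨T, p⟩ hx
          simp only [mem_sigma] at hx
          simp [insert_erase hx.2]
        · rintro ⟨S, p⟩ hx
          simp only [mem_sigma] at hx
          have := ((P.mem_ext (P.mem_indepSets.1 hx.1).2).1 hx.2).1
          simp [erase_insert this]
    _ = ∑ _S ∈ P.indepSets k, e := by
        rw [card_sigma]
        exact sum_congr rfl fun S hS => he S (P.mem_indepSets.1 hS).1 (P.mem_indepSets.1 hS).2

theorem counts : (P.indepSets 4).card = 2520 ∧ (P.indepSets 6).card = 168 := by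
  have h1 : (P.indepSets 1).card = 21 := by
    have : P.indepSets 1 = univ.image fun a => ({a} : Finset α) := by
      ext S
      rw [P.mem_indepSets, card_eq_one, mem_image]
      constructor
      · rintro ⟨⟨a, rfl⟩, -⟩; exact ⟨a, mem_univ _, rfl⟩
      · rintro ⟨a, -, rfl⟩; exact ⟨⟨a, rfl⟩, indep_small (by simp)⟩
    rw [this, card_image_of_injective _ fun a b h => singleton_injective h, card_univ, P.card]
  have h2 := P.count_step 1 20 fun S hS _ => P.card_ext_one hS
  have h3 := P.count_step 2 16 fun S hS _ => P.card_ext_two hS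
  have h4 := P.count_step 3 9 fun S hS hI => P.card_ext_three hS hI
  have h5 := P.count_step 4 2 fun S hS hI => (P.ext_four hS hI).1
  have h6 := P.count_step 5 1 fun S hS hI => P.card_ext_five hS hI
  norm_num at h2 h3 h4 h5 h6
  omega

theorem existsUnique_hyperoval {S : Finset α} (hS : S.card = 4) (hI : Indep L S) :
    ∃! H : Finset α, (H.card = 6 ∧ Indep L H) ∧ S ⊆ H := by
  obtain ⟨h2, hH⟩ := P.ext_four hS hI
  have hd : Disjoint S (P.ext S) := disjoint_left.2 fun x hx hx' => (mem_filter.1 hx').2.1 hx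
  refine ⟨S ∪ P.ext S, ⟨⟨by rw [card_union_of_disjoint hd, hS, h2], hH⟩, subset_union_left⟩, ?_⟩
  rintro H ⟨⟨hc, hHI⟩, hSH⟩
  refine eq_of_subset_of_card_le (fun x hx => ?_) (by rw [card_union_of_disjoint hd, hS, h2, hc])
  by_cases hxS : x ∈ S
  · exact mem_union_left _ hxS
  · exact mem_union_right _ ((P.mem_ext hI).2 ⟨hxS, indep_mono hHI (insert_subset hx hSH)⟩)

end IsPlane

end Cfsg.Agent.Plane4
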