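import Mathlib
import Cfsg.Agent.Plane4.Basic

/-!
# Coordinates of a projective plane of order 4 at a hyperoval: duads and synthemes
-/

namespace Cfsg.Agent.Plane4

open Finset

/-- The 15 synthemes of six letters, as fixed-point-free involutions. -/
def syn : Fin 15 → Fin 6 → Fin 6 :=
![![1, 0, 3, 2, 5, 4],
  ![1, 0, 4, 5, 2, 3],
  ![1, 0, 5, 4, 3, 2],
  ![2, 3, 0, 1, 5, 4],
  ![2, 4, 0, 5, 1, 3],
  ![2, 5, 0, 4, 3, 1],
  ![3, 2, 1, 0, 5, 4],
  ![3, 4, 5, 0, 1, 2],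
  ![3, 5, 4, 0, 2, 1],
  ![4, 2, 1, 5, 0, 3],
  ![4, 3, 5, 1, 0, 2],
  ![4, 5, 3, 2, 0, 1],
  ![5, 2, 1, 4, 3, 0],
  ![5, 3, 4, 1, 2, 0],
  ![5, 4, 3, 2, 1, 0]]

set_option synthInstance.maxSize 5000 in
set_option synthInstance.maxHeartbeats 400000 in
theorem syn_table : ∀ a0 : Fin 6, a0 ≠ 0 → ∀ a1 : Fin 6, a1 ≠ 1 → (a1 = 0 ↔ a0 = 1) → ∀ a2 : Fin 6, a2 ≠ 2 → (a2 = 0 ↔ a0 = 2) → (a2 = 1 ↔ a1 = 2) → ∀ a3 : Fin 6, a3 ≠ 3 → (a3 = 0 ↔ a0 = 3) → (a3 = 1 ↔ a1 = 3) → (a3 = 2 ↔ a2 = 3) → ∀ a4 : Fin 6, a4 ≠ 4 → (a4 = 0 ↔ a0 = 4) → (a4 = 1 ↔ a1 = 4) → (a4 = 2 ↔ a2 = 4) → (a4 = 3 ↔ a3 = 4) → ∀ a5 : Fin 6, a5 ≠ 5 → (a5 = 0 ↔ a0 = 5) → (a5 = 1 ↔ a1 = 5) → (a5 = 2 ↔ a2 = 5) → (a5 = 3 ↔ a3 = 5) → (a5 = 4 ↔ a4 = 5) → ∃ k : Fin 15, syn k = ![a0, a1, a2, a3, a4, a5] := by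
  decide +kernel

theorem exists_syn (f : Fin 6 → Fin 6) (h1 : ∀ i, f i ≠ i) (h2 : ∀ i, f (f i) = i) : ∃ k, syn k = f := by
  have hs : ∀ i j, f j = i ↔ f i = j := fun i j =>
    ⟨fun h => by rw [← h, h2], fun h => by rw [← h, h2]⟩
  obtain ⟨k, hk⟩ := syn_table (f 0) (h1 _) (f 1) (h1 _) (hs _ _) (f 2) (h1 _) (hs _ _) (hs _ _)
    (f 3) (h1 _) (hs _ _) (hs _ _) (hs _ _) (f 4) (h1 _) (hs _ _) (hs _ _) (hs _ _) (hs _ _)
    (f 5) (h1 _) (hs _ _) (hs _ _) (hs _ _) (hs _ _) (hs _ _)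
  refine ⟨k, hk.trans ?_⟩
  funext i
  fin_cases i <;> rfl

theorem syn_inj : ∀ k k' : Fin 15, syn k = syn k' → k = k' := by decide +kernel

/-- Two synthemes without a common duad. -/
abbrev SDisj (s t : Fin 15) : Prop := ∀ i, syn s i ≠ syn t i

/-- The synthemes completing two disjoint ones to a total. -/
def comp (s t : Fin 15) : Finset (Fin 15) :=
  univ.filter fun u => (SDisj u s ∧ SDisj u t) ∧
    2 ≤ (univ.filter fun v => (SDisj v s ∧ SDisj v t) ∧ SDisj u v).card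

theorem comp_card : ∀ s t : Fin 15, s ≠ t → SDisj s t → (comp s t).card = 3 := by decide +kernel

theorem clique_eq {S : Finset (Fin 15)} (hS : S.card = 5)
    (hd : ∀ u ∈ S, ∀ v ∈ S, u ≠ v → SDisj u v) {s t : Fin 15} (hs : s ∈ S) (ht : t ∈ S) (hst : s ≠ t) :
    S = insert s (insert t (comp s t)) := by
  have hmem : ∀ u ∈ S, u ≠ s → u ≠ t → u ∈ comp s t := by
    intro u hu hus hut
    refine mem_filter.2 ⟨mem_univ _, ⟨hd u hu s hs hus, hd u hu t ht hut⟩, ?_⟩
    have hsub : ((S.erase s).erase t).erase u ⊆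
        univ.filter fun v => (SDisj v s ∧ SDisj v t) ∧ SDisj u v := by
      intro v hv
      simp only [mem_erase] at hv
      obtain ⟨hvu, hvt, hvs, hv⟩ := hv
      exact mem_filter.2 ⟨mem_univ _, ⟨hd v hv s hs hvs, hd v hv t ht hvt⟩, hd u hu v hv (Ne.symm hvu)⟩
    refine le_trans ?_ (card_le_card hsub)
    rw [card_erase_of_mem (by simp [hut, hus, hu]), card_erase_of_mem (by simp [hst.symm, ht]),
      card_erase_of_mem hs, hS]
  have hsub : S ⊆ insert s (insert t (comp s t)) := fun u hu => by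
    by_cases h1 : u = s
    · simp [h1]
    by_cases h2 : u = t
    · simp [h2]
    simp [hmem u hu h1 h2]
  refine eq_of_subset_of_card_le hsub ?_
  rw [hS]
  have hc : (comp s t).card = 3 := comp_card s t hst (hd s hs t ht hst)
  have := card_insert_le t (comp s t)
  have := card_insert_le s (insert t (comp s t))
  omega

/-- The points of the model. -/
abbrev MPt := Fin 6 ⊕ Fin 15

/-- The lines of the model. -/
def IsMLine (S : Finset MPt) : Prop :=
  (∃ i j, i ≠ j ∧ ∀ x, x ∈ S ↔ x = Sum.inl i ∨ x = Sum.inl j ∨ ∃ k, x = Sum.inr k ∧ syn k i = j) ∨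
    (S.card = 5 ∧ (∀ i, Sum.inl i ∉ S) ∧
      ∀ k k', Sum.inr k ∈ S → Sum.inr k' ∈ S → k ≠ k' → SDisj k k')

variable {α : Type*} [Fintype α] [DecidableEq α] {L : Set (Finset α)}

/-- Coordinates. -/
def IsCoord (L : Set (Finset α)) (Ψ : MPt ≃ α) : Prop :=
  ∀ S : Finset MPt, S.map Ψ.toEmbedding ∈ L ↔ IsMLine S

namespace IsPlane

variable (P : IsPlane L) (h : Fin 6 → α) (hinj : Function.Injective h)
  (hI : Indep L (univ.image h))
include P hinj hI

theorem eq_of_three {l : Finset α} (hl : l ∈ L) {i j k : Fin 6} (hij : i ≠ j)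
    (hi : h i ∈ l) (hj : h j ∈ l) (hk : h k ∈ l) : k = i ∨ k = j := by
  by_contra hne
  push Not at hne
  have hsub : ({h i, h j, h k} : Finset α) ⊆ l ∩ univ.image h := by
    intro y hy
    simp only [mem_insert, mem_singleton] at hy
    rcases hy with rfl | rfl | rfl <;> simp [hi, hj, hk]
  have := (card_le_card hsub).trans (hI l hl)
  rw [card_insert_of_notMem (by simp [hinj.eq_iff, hij, hne.1.symm]),
    card_insert_of_notMem (by simp [hinj.eq_iff, hne.2.symm]), card_singleton] at this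
  omega

theorem secant {l : Finset α} (hl : l ∈ L) {i : Fin 6} (hi : h i ∈ l) : ∃ j, j ≠ i ∧ h j ∈ l := by
  have hsub : ((univ.erase i).image fun j => P.ln (h i) (h j)) ⊆ P.pencil (h i) := by
    intro m hm
    obtain ⟨j, hj, rfl⟩ := mem_image.1 hm
    have hne : h i ≠ h j := fun e => (ne_of_mem_erase hj) (hinj e).symm
    exact P.mem_pencil.2 ⟨(P.ln_spec hne).1, (P.ln_spec hne).2.1⟩
  have hin : Set.InjOn (fun j => P.ln (h i) (h j)) (univ.erase i : Finset (Fin 6)) := by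
    intro j hj j' hj' e
    have e' : P.ln (h i) (h j) = P.ln (h i) (h j') := e
    simp only [coe_erase, coe_univ, Set.mem_sdiff, Set.mem_univ, true_and, Set.mem_singleton_iff] at hj hj'
    have hne : h i ≠ h j := fun e => hj (hinj e).symm
    have hne' : h i ≠ h j' := fun e => hj' (hinj e).symm
    rcases P.eq_of_three h hinj hI (P.ln_spec hne).1 (Ne.symm hj) (P.ln_spec hne).2.1 (P.ln_spec hne).2.2
      (e'.symm ▸ (P.ln_spec hne').2.2 : h j' ∈ P.ln (h i) (h j)) with r | r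
    · exact absurd r hj'
    · exact r.symm
  have heq := eq_of_subset_of_card_le hsub (by
    rw [card_image_of_injOn hin, P.card_pencil]; simp)
  obtain ⟨j, hj, hje⟩ := mem_image.1 (heq.ge (P.mem_pencil.2 ⟨hl, hi⟩))
  exact ⟨j, ne_of_mem_erase hj, hje ▸ (P.ln_spec fun e => (ne_of_mem_erase hj) (hinj e).symm).2.2⟩

theorem exists_mate {p : α} (hp : p ∉ univ.image h) :
    ∃ k, ∀ i, h (syn k i) ∈ P.ln p (h i) := by
  have hpne : ∀ i, p ≠ h i := fun i e => hp (e ▸ mem_image_of_mem h (mem_univ i))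
  choose f hf1 hf2 using fun i => P.secant h hinj hI (P.ln_spec (hpne i)).1 (P.ln_spec (hpne i)).2.2
  have hf3 : ∀ i, f (f i) = i := fun i => by
    obtain ⟨hl, hpl, hil⟩ := P.ln_spec (hpne i)
    have e := P.eq_ln hl (hpne (f i)) hpl (hf2 i)
    have h3 : h (f (f i)) ∈ P.ln p (h i) := e ▸ hf2 (f i)
    rcases P.eq_of_three h hinj hI hl (Ne.symm (hf1 i)) hil (hf2 i) h3 with r | r
    · exact r
    · exact absurd r (hf1 (f i))
  obtain ⟨k, hk⟩ := exists_syn f hf1 hf3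
  exact ⟨k, fun i => hk ▸ hf2 i⟩

theorem mate_unique {p : α} (hp : p ∉ univ.image h) {k : Fin 15}
    (hk : ∀ i, h (syn k i) ∈ P.ln p (h i)) {l : Finset α} (hl : l ∈ L) (hpl : p ∈ l) {i j : Fin 6}
    (hij : i ≠ j) (hi : h i ∈ l) (hj : h j ∈ l) : syn k i = j := by
  have hpne : p ≠ h i := fun e => hp (e ▸ mem_image_of_mem h (mem_univ i))
  have e := P.eq_ln hl hpne hpl hi
  rcases P.eq_of_three h hinj hI hl hij hi hj (e.symm ▸ hk i : h (syn k i) ∈ l) with r | r
  · exfalso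
    have : ∀ (k : Fin 15) (i : Fin 6), syn k i ≠ i := by decide +kernel
    exact this k i r
  · exact r

theorem exists_coord : ∃ Ψ : MPt ≃ α, IsCoord L Ψ ∧ ∀ i, Ψ (Sum.inl i) = h i := by
  classical
  have hfix : ∀ (k : Fin 15) (i : Fin 6), syn k i ≠ i := by decide +kernel
  choose σ hσ using fun p : {p : α // p ∉ univ.image h} => P.exists_mate h hinj hI p.2
  have hσinj : Function.Injective σ := by
    intro p q e
    apply Subtype.ext
    by_contra hne
    -- both lie on two different secants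
    have hp0 : (p : α) ≠ h 0 := fun e' => p.2 (e' ▸ mem_image_of_mem h (mem_univ _))
    obtain ⟨a, ha0, ha1⟩ : ∃ a : Fin 6, a ≠ 0 ∧ a ≠ syn (σ p) 0 := by
      have : ∀ b : Fin 6, ∃ a : Fin 6, a ≠ 0 ∧ a ≠ b := by decide
      exact this _
    have hsec : ∀ i, (q : α) ∈ P.ln p (h i) := fun i => by
      have hpi : (p : α) ≠ h i := fun e' => p.2 (e' ▸ mem_image_of_mem h (mem_univ _))
      have hqi : (q : α) ≠ h i := fun e' => q.2 (e' ▸ mem_image_of_mem h (mem_univ _))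
      obtain ⟨hl, -, hil⟩ := P.ln_spec hpi
      obtain ⟨hm, hqm, him⟩ := P.ln_spec hqi
      have hneh : h i ≠ h (syn (σ p) i) := fun e' => hfix _ _ (hinj e').symm
      have e1 := P.eq_ln hl hneh hil (hσ p i)
      have e2 := P.eq_ln hm hneh him (e ▸ hσ q i)
      rw [e1, ← e2]; exact hqm
    have hpi : (p : α) ≠ h a := fun e' => p.2 (e' ▸ mem_image_of_mem h (mem_univ _))
    refine hne (P.eq_of_mem (P.ln_spec hp0).1 (P.ln_spec hpi).1 (fun e' => ?_)
      (P.ln_spec hp0).2.1 (P.ln_spec hpi).2.1 (hsec 0) (hsec a))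
    rcases P.eq_of_three h hinj hI (P.ln_spec hp0).1 (hfix (σ p) 0).symm (P.ln_spec hp0).2.2 (hσ p 0)
      (e'.symm ▸ (P.ln_spec hpi).2.2 : h a ∈ P.ln (p : α) (h 0)) with r | r
    · exact ha0 r
    · exact ha1 r
  have hbij : Function.Bijective σ := by
    refine (Fintype.bijective_iff_injective_and_card σ).2 ⟨hσinj, ?_⟩
    rw [Fintype.card_subtype_compl, P.card, Fintype.card_coe, card_image_of_injective _ hinj]
    simp
  let E := Equiv.ofBijective σ hbij
  let g : MPt → α := Sum.elim h fun k => (E.symm k : α)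
  have hg : Function.Injective g := by
    rintro (i | k) (j | k') e
    · exact congrArg Sum.inl (hinj e)
    · exact ((E.symm k').2 ((show h i = (E.symm k' : α) from e) ▸ mem_image_of_mem h (mem_univ i))).elim
    · exact ((E.symm k).2 ((show (E.symm k : α) = h j from e).symm ▸ mem_image_of_mem h (mem_univ j))).elim
    · exact congrArg Sum.inr (E.symm.injective (Subtype.ext e))
  let Ψ : MPt ≃ α := Equiv.ofBijective g ((Fintype.bijective_iff_injective_and_card g).2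
    ⟨hg, by rw [P.card]; simp⟩)
  have hmate : ∀ k i, h (syn k i) ∈ P.ln (g (Sum.inr k)) (h i) := fun k i => by
    have := hσ (E.symm k) i
    rwa [show σ (E.symm k) = k from E.apply_symm_apply k] at this
  have hoff : ∀ k, g (Sum.inr k) ∉ univ.image h := fun k => (E.symm k).2
  have hfwd : ∀ S : Finset MPt, S.map Ψ.toEmbedding ∈ L → IsMLine S := by
    intro S hS
    set l := S.map Ψ.toEmbedding with hldef
    have hmem : ∀ x, x ∈ S ↔ g x ∈ l := fun x => (mem_map' Ψ.toEmbedding).symm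
    by_cases hsec : ∃ i, h i ∈ l
    · obtain ⟨i, hi⟩ := hsec
      obtain ⟨j, hji, hj⟩ := P.secant h hinj hI hS hi
      refine Or.inl ⟨i, j, hji.symm, fun x => ?_⟩
      rw [hmem]
      rcases x with x | k
      · simp only [Sum.inl.injEq, reduceCtorEq, false_and, exists_false, or_false]
        refine ⟨fun hx => P.eq_of_three h hinj hI hS hji.symm hi hj hx, ?_⟩
        rintro (rfl | rfl)
        exacts [hi, hj]
      · simp only [reduceCtorEq, false_or, Sum.inr.injEq, exists_eq_left']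
        refine ⟨fun hx => P.mate_unique h hinj hI (hoff k) (hmate k) hS hx hji.symm hi hj, fun hk => ?_⟩
        have hne : g (Sum.inr k) ≠ h i := fun e => hoff k (e ▸ mem_image_of_mem h (mem_univ i))
        obtain ⟨hm, hkm, him⟩ := P.ln_spec hne
        have hneh : h i ≠ h j := fun e => hji (hinj e).symm
        rw [P.eq_ln hS hneh hi hj, ← P.eq_ln hm hneh him (hk ▸ hmate k i)]
        exact hkm
    · push Not at hsec
      refine Or.inr ⟨by rw [← card_map Ψ.toEmbedding, P.card_line hS],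
        fun i hi => hsec i ((hmem _).1 hi), fun k k' hk hk' hne i e => ?_⟩
      -- a common duad would make `l` a secant
      have h1 : g (Sum.inr k) ∈ l := (hmem _).1 hk
      have h2 : g (Sum.inr k') ∈ l := (hmem _).1 hk'
      have hkk : g (Sum.inr k) ≠ g (Sum.inr k') := fun e' => hne (Sum.inr_injective (hg e'))
      have hk1 : g (Sum.inr k) ≠ h i := fun e' => hoff k (e' ▸ mem_image_of_mem h (mem_univ i))
      have hk2 : g (Sum.inr k') ≠ h i := fun e' => hoff k' (e' ▸ mem_image_of_mem h (mem_univ i))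
      obtain ⟨hm, hkm, him⟩ := P.ln_spec hk1
      obtain ⟨hm', hkm', him'⟩ := P.ln_spec hk2
      have hneh : h i ≠ h (syn k i) := fun e' => hfix _ _ (hinj e').symm
      have e1 := P.eq_ln hm hneh him (hmate k i)
      have e2 := P.eq_ln hm' hneh him' (e ▸ hmate k' i)
      have hl : l = P.ln (g (Sum.inr k)) (g (Sum.inr k')) := P.eq_ln hS hkk h1 h2
      have hm2 : P.ln (g (Sum.inr k)) (h i) = P.ln (g (Sum.inr k)) (g (Sum.inr k')) :=
        P.eq_ln hm hkk hkm (by rw [e1, ← e2]; exact hkm')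
      exact hsec i (hl ▸ hm2 ▸ him)
  refine ⟨Ψ, fun S => ⟨hfwd S, ?_⟩, fun i => rfl⟩
  rintro (⟨i, j, hij, hS⟩ | ⟨hc, hno, hd⟩)
  · have hne : h i ≠ h j := fun e => hij (hinj e)
    obtain ⟨hl, hil, hjl⟩ := P.ln_spec hne
    suffices S.map Ψ.toEmbedding = P.ln (h i) (h j) from this ▸ hl
    ext y
    obtain ⟨x, rfl⟩ := Ψ.surjective y
    rw [show Ψ x = Ψ.toEmbedding x from rfl, mem_map', hS]
    show _ ↔ g x ∈ _
    rcases x with x | k
    · simp only [Sum.inl.injEq, reduceCtorEq, false_and, exists_false, or_false]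
      refine ⟨?_, fun hx => P.eq_of_three h hinj hI hl hij hil hjl hx⟩
      rintro (rfl | rfl)
      exacts [hil, hjl]
    · simp only [reduceCtorEq, false_or, Sum.inr.injEq, exists_eq_left']
      refine ⟨fun hk => ?_, fun hx => P.mate_unique h hinj hI (hoff k) (hmate k) hl hx hij hil hjl⟩
      have hk1 : g (Sum.inr k) ≠ h i := fun e => hoff k (e ▸ mem_image_of_mem h (mem_univ i))
      obtain ⟨hm, hkm, him⟩ := P.ln_spec hk1
      exact P.eq_ln hm hne him (hk ▸ hmate k i) ▸ hkm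
  · -- the external line through two members
    obtain ⟨T, hT⟩ : ∃ T : Finset (Fin 15), S = T.map ⟨Sum.inr, Sum.inr_injective⟩ := by
      refine ⟨univ.filter fun k => Sum.inr k ∈ S, ?_⟩
      ext x
      rcases x with i | k
      · simp [hno i]
      · simp
    subst hT
    rw [card_map] at hc
    obtain ⟨s, hs, t, ht, hst⟩ := one_lt_card.1 (show 1 < T.card by omega)
    have hne : g (Sum.inr s) ≠ g (Sum.inr t) := fun e => hst (Sum.inr_injective (hg e))
    obtain ⟨hl, hsl, htl⟩ := P.ln_spec hne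
    set l := P.ln (g (Sum.inr s)) (g (Sum.inr t))
    have hS' := hfwd ((l.map Ψ.symm.toEmbedding)) (by
      rw [map_map]; convert hl using 1; ext y; simp)
    have hin : ∀ x, g x ∈ l → x ∈ l.map Ψ.symm.toEmbedding := fun x hx =>
      mem_map.2 ⟨g x, hx, Ψ.symm_apply_apply x⟩
    have hd' : ∀ u ∈ T, ∀ v ∈ T, u ≠ v → SDisj u v := fun u hu v hv huv =>
      hd u v (mem_map.2 ⟨u, hu, rfl⟩) (mem_map.2 ⟨v, hv, rfl⟩) huv
    rcases hS' with ⟨i, j, -, hij⟩ | ⟨hc', hno', hdl⟩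
    · exfalso
      have hi1 := (hij (Sum.inr s)).1 (hin _ hsl)
      have hj1 := (hij (Sum.inr t)).1 (hin _ htl)
      simp only [reduceCtorEq, false_or, Sum.inr.injEq, exists_eq_left'] at hi1 hj1
      exact hd' s hs t ht hst i (hi1.trans hj1.symm)
    · obtain ⟨T', hT'⟩ : ∃ T' : Finset (Fin 15),
          l.map Ψ.symm.toEmbedding = T'.map ⟨Sum.inr, Sum.inr_injective⟩ := by
        refine ⟨univ.filter fun k => Sum.inr k ∈ l.map Ψ.symm.toEmbedding, ?_⟩
        ext x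
        rcases x with i | k
        · exact iff_of_false (hno' i) (by simp)
        · simp
      rw [hT', card_map] at hc'
      have hd'' : ∀ u ∈ T', ∀ v ∈ T', u ≠ v → SDisj u v := fun u hu v hv huv =>
        hdl u v (hT' ▸ mem_map.2 ⟨u, hu, rfl⟩) (hT' ▸ mem_map.2 ⟨v, hv, rfl⟩) huv
      have hs' : s ∈ T' := by
        have := hT' ▸ hin _ hsl
        simpa using this
      have ht' : t ∈ T' := by
        have := hT' ▸ hin _ htl
        simpa using this
      rw [clique_eq hc hd' hs ht hst, ← clique_eq hc' hd'' hs' ht' hst, ← hT', map_map]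
      convert hl using 1; ext y; simp

theorem coord_unique {Ψ Ψ' : MPt ≃ α} (hΨ : IsCoord L Ψ) (hΨ' : IsCoord L Ψ')
    (h1 : ∀ i, Ψ (Sum.inl i) = h i) (h2 : ∀ i, Ψ' (Sum.inl i) = h i) : Ψ = Ψ' := by
  classical
  refine Equiv.ext fun x => ?_
  rcases x with i | k
  · rw [h1, h2]
  obtain ⟨x', hx'⟩ := Ψ'.surjective (Ψ (Sum.inr k))
  rcases x' with i | k'
  · exact absurd (Ψ.injective ((h1 i).trans ((h2 i).symm.trans hx'))) (by simp)
  rw [← hx']
  congr 2
  refine syn_inj _ _ (funext fun i => ?_)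
  have hfix : ∀ (k : Fin 15) (i : Fin 6), syn k i ≠ i := by decide +kernel
  set j := syn k' i with hj
  have hij : i ≠ j := (hfix k' i).symm
  let S : Finset MPt := univ.filter fun x => x = Sum.inl i ∨ x = Sum.inl j ∨ ∃ k, x = Sum.inr k ∧ syn k i = j
  have hS : IsMLine S := Or.inl ⟨i, j, hij, fun x => by simp [S]⟩
  have l1 := (hΨ S).2 hS
  have l2 := (hΨ' S).2 hS
  have hne : h i ≠ h j := fun e => hij (hinj e)
  have a1 : ∀ Φ : MPt ≃ α, (∀ i, Φ (Sum.inl i) = h i) → h i ∈ S.map Φ.toEmbedding ∧ h j ∈ S.map Φ.toEmbedding :=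
    fun Φ hΦ => ⟨mem_map.2 ⟨Sum.inl i, by simp [S], hΦ i⟩, mem_map.2 ⟨Sum.inl j, by simp [S], hΦ j⟩⟩
  have e : S.map Ψ.toEmbedding = S.map Ψ'.toEmbedding :=
    (P.eq_ln l1 hne (a1 Ψ h1).1 (a1 Ψ h1).2).trans (P.eq_ln l2 hne (a1 Ψ' h2).1 (a1 Ψ' h2).2).symm
  have hk' : Ψ (Sum.inr k) ∈ S.map Ψ.toEmbedding := by
    rw [e, ← hx']
    exact mem_map.2 ⟨Sum.inr k', by simp [S, hj], rfl⟩
  rw [show Ψ (Sum.inr k) = Ψ.toEmbedding (Sum.inr k) from rfl, mem_map'] at hk'
  exact ((by simpa [S] using hk' : syn k i = j)).symm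

end IsPlane

theorem IsCoord.image_mem_iff {β : Type*} [Fintype β] [DecidableEq β] {L' : Set (Finset β)} {Ψ : MPt ≃ α}
    {Ψ' : MPt ≃ β} (h : IsCoord L Ψ) (h' : IsCoord L' Ψ') (l : Finset α) :
    l.image (Ψ.symm.trans Ψ') ∈ L' ↔ l ∈ L := by
  have e1 : (l.map Ψ.symm.toEmbedding).map Ψ.toEmbedding = l := by ext; simp
  have e2 : (l.map Ψ.symm.toEmbedding).map Ψ'.toEmbedding = l.image (Ψ.symm.trans Ψ') := by
    rw [map_map, map_eq_image]; rfl
  conv_rhs => rw [← e1]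
  rw [← e2]
  exact (h' _).trans (h _).symm

theorem IsCoord.image_eq {β : Type*} [Fintype β] [DecidableEq β] {L' : Set (Finset β)} {Ψ : MPt ≃ α}
    {Ψ' : MPt ≃ β} (h : IsCoord L Ψ) (h' : IsCoord L' Ψ') :
    (fun l => l.image (Ψ.symm.trans Ψ')) '' L = L' := by
  ext m
  constructor
  · rintro ⟨l, hl, rfl⟩
    exact (h.image_mem_iff h' l).2 hl
  · intro hm
    have e : (m.image (Ψ'.symm.trans Ψ)).image (Ψ.symm.trans Ψ') = m := by ext; simp
    exact ⟨m.image (Ψ'.symm.trans Ψ), (h'.image_mem_iff h m).2 hm, e⟩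

end Cfsg.Agent.Plane4
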