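import Mathlib
import Cfsg.Agent.Plane4.Coord
import Cfsg.Agent.S5626
import Cfsg.Agent.S5628
import Cfsg.Agent.Classical.LinearBasic

/-! The simple group of the plane of order four. -/

set_option autoImplicit false

namespace Cfsg.Agent.Plane4
open Cfsg Finset
open scoped Pointwise LinearAlgebra.Projectivization

variable {α : Type*} [Fintype α] [DecidableEq α] {L : Set (Finset α)}

omit [Fintype α] in
theorem smul_finset_eq_image (g : Equiv.Perm α) (S : Finset α) : g • S = S.image g :=
  Finset.ext fun x => by simp [Finset.mem_smul_finset, Equiv.Perm.smul_def]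

theorem card_aut_le (hα : Fintype.card α = 21) (hL : IsSteinerSystem 2 5 L) :
    Nat.card (setSystemAut L) ≤ 120960 := by
  classical
  have P : IsPlane L := ⟨hα, hL⟩
  have h6 := P.counts.2
  obtain ⟨H, hH⟩ := Finset.card_pos.1 (by rw [h6]; norm_num : 0 < (P.indepSets 6).card)
  rw [P.mem_indepSets] at hH
  set S := MulAction.stabilizer (setSystemAut L) H
  rw [← Nat.card_congr (MulAction.orbitProdStabilizerEquivGroup (setSystemAut L) H), Nat.card_prod,
    show (120960 : ℕ) = 168 * 720 from rfl]
  refine Nat.mul_le_mul ?_ ?_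
  · rw [Nat.card_coe_set_eq, ← h6, ← Set.ncard_coe_finset]
    refine Set.ncard_le_ncard ?_ (Finset.finite_toSet _)
    rintro _ ⟨g, rfl⟩
    show g • H ∈ (P.indepSets 6 : Set (Finset α))
    rw [Finset.mem_coe, P.mem_indepSets]
    refine ⟨by rw [Finset.card_smul_finset, hH.1], fun l hl => ?_⟩
    have hg := MulAction.mem_stabilizer_iff.1 g.2
    have hl' : (g : Equiv.Perm α)⁻¹ • l ∈ L := by
      rw [← Set.smul_mem_smul_set_iff (a := (g : Equiv.Perm α)), hg, smul_inv_smul]; exact hl
    have := hH.2 _ hl'
    rw [← Finset.card_smul_finset (g : Equiv.Perm α), Finset.smul_finset_inter, smul_inv_smul] at this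
    exact this
  · have hS : ∀ g ∈ S, ∀ x, x ∈ H ↔ ((g : setSystemAut L) : Equiv.Perm α) x ∈ H := fun g hg x => by
      have h : (g : Equiv.Perm α) • H = H := MulAction.mem_stabilizer_iff.1 hg
      constructor
      · intro hx; rw [← h]; exact Finset.smul_mem_smul_finset hx
      · intro hx
        rw [← h, Finset.mem_smul_finset] at hx
        obtain ⟨y, hy, he⟩ := hx
        exact (g : Equiv.Perm α).injective he ▸ hy
    let r : ↥S → Equiv.Perm ↥H := fun g =>
      ((g : setSystemAut L) : Equiv.Perm α).subtypePerm fun x => (hS g g.2 x).symm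
    have hr : Function.Injective r := fun g g' e => by
      obtain ⟨g0, -, huniq⟩ := S5628.result hα L hL H hH (r g)
      have h1 := huniq _ ⟨(g : setSystemAut L).2, fun p => rfl⟩
      have h2 := huniq _ ⟨(g' : setSystemAut L).2, fun p => by rw [e]; rfl⟩
      exact Subtype.ext (Subtype.ext (h1.trans h2.symm))
    refine (Nat.card_le_card_of_injective r hr).trans ?_
    rw [Nat.card_perm, Nat.card_eq_finsetCard, hH.1]
    decide

/-- two subgroups of order 20160, one of them simple, in a group of order at most 120960 -/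
theorem eq_of_simple {X : Type*} [Group X] [Finite X] {A N₁ N₂ : Subgroup X} [IsSimpleGroup ↥N₁]
    (h1 : N₁ ≤ A) (h2 : N₂ ≤ A) (c1 : Nat.card N₁ = 20160) (c2 : Nat.card N₂ = 20160)
    (cA : Nat.card A ≤ 120960) : N₁ = N₂ := by
  have hidx : (N₂.subgroupOf N₁).index ≤ 6 := by
    show N₂.relIndex N₁ ≤ 6
    have h3 : N₂.relIndex A * Nat.card N₂ = Nat.card A := by
      rw [Subgroup.relIndex, ← Nat.card_congr (Subgroup.subgroupOfEquivOfLe h2).toEquiv]
      exact Subgroup.index_mul_card _
    have h4 : N₂.relIndex A ≠ 0 := Subgroup.index_ne_zero_of_finite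
    refine le_trans (Subgroup.relIndex_le_of_le_right h1 h4) ?_
    rw [c2] at h3
    omega
  have htop : N₂.subgroupOf N₁ = ⊤ := by
    by_contra hne
    set K := N₂.subgroupOf N₁
    have hfin : Finite (↥N₁ ⧸ K) := inferInstance
    rcases Subgroup.Normal.eq_bot_or_eq_top (inferInstance : K.normalCore.Normal) with h | h
    · have hinj : Function.Injective (MulAction.toPermHom ↥N₁ (↥N₁ ⧸ K)) := by
        rw [← MonoidHom.ker_eq_bot_iff, ← Subgroup.normalCore_eq_ker]; exact h
      have hle := Nat.card_le_card_of_injective _ hinj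
      rw [Nat.card_perm, c1] at hle
      have := Nat.factorial_le (show Nat.card (↥N₁ ⧸ K) ≤ 6 from hidx)
      norm_num [Nat.factorial] at this
      omega
    · exact hne (top_le_iff.1 (h ▸ K.normalCore_le))
  exact Subgroup.eq_of_le_of_card_ge (Subgroup.subgroupOf_eq_top.1 htop) (by rw [c1, c2])

variable (F : Type) [Field F] [Fintype F]

/-- the lines of the projective plane -/
def pgLines : Set (Finset (ℙ F (Fin 3 → F))) :=
  {S | ∃ W : Submodule F (Fin 3 → F), Module.finrank F W = 2 ∧ ∀ P, P ∈ S ↔ P.submodule ≤ W}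

variable {F}

theorem pg_card (hF : Fintype.card F = 4) : Nat.card (ℙ F (Fin 3 → F)) = 21 := by
  rw [Projectivization.card_of_finrank (n := 3) F _ (by simp), Nat.card_eq_fintype_card, hF]
  decide

theorem pg_steiner (hF : Fintype.card F = 4) [Fintype (ℙ F (Fin 3 → F))] [DecidableEq (ℙ F (Fin 3 → F))] :
    IsSteinerSystem 2 5 (pgLines F) := by
  classical
  refine ⟨fun S hS => ?_, fun s hs => ?_⟩
  · obtain ⟨W, hW, hmem⟩ := hS
    have hinj := Submodule.injective_subtype W
    have himg : (S : Set (ℙ F (Fin 3 → F))) = Set.range (Projectivization.map W.subtype hinj) := by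
      ext P
      induction P using Projectivization.ind with | h v hv =>
      rw [Finset.mem_coe, hmem, Projectivization.submodule_mk, Submodule.span_singleton_le_iff_mem]
      constructor
      · intro hvW
        exact ⟨Projectivization.mk F (⟨v, hvW⟩ : W) (fun e => hv (congrArg Subtype.val e)), rfl⟩
      · rintro ⟨Q, hQ⟩
        induction Q using Projectivization.ind with | h w hw =>
        rw [Projectivization.map_mk] at hQ
        obtain ⟨a, ha⟩ := (Projectivization.mk_eq_mk_iff' F _ _ _ _).1 hQ.symm
        exact ha ▸ W.smul_mem a w.2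
    have hc := Nat.card_range_of_injective (Projectivization.map_injective W.subtype hinj)
    rw [← himg, Projectivization.card_of_finrank (n := 2) F W hW, Nat.card_eq_fintype_card (α := F), hF] at hc
    simpa [Finset.sum_range_succ] using hc
  · obtain ⟨P, Q, hPQ, rfl⟩ := Finset.card_eq_two.1 hs
    have hli := Projectivization.linearIndependent_pair_iff_ne.2 hPQ
    set W := P.submodule ⊔ Q.submodule with hWdef
    have hW : Module.finrank F W = 2 := by
      have := finrank_span_eq_card hli
      rw [Fintype.card_fin] at this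
      rw [hWdef, Projectivization.submodule_eq, Projectivization.submodule_eq, ← Submodule.span_union]
      rw [show ({P.rep} ∪ {Q.rep} : Set (Fin 3 → F)) = Set.range ![P.rep, Q.rep] by
        ext; simp]
      exact this
    refine ⟨univ.filter fun R => R.submodule ≤ W, ⟨⟨W, hW, fun R => by simp⟩, ?_⟩, ?_⟩
    · simp [Finset.insert_subset_iff, hWdef]
    · rintro S ⟨⟨W', hW', hmem⟩, hsub⟩
      have hWW : W = W' := Submodule.eq_of_le_of_finrank_eq
        (sup_le ((hmem P).1 (hsub (by simp))) ((hmem Q).1 (hsub (by simp)))) (hW.trans hW'.symm)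
      ext R
      simp [hmem, hWW]

theorem pg_action [Fintype (ℙ F (Fin 3 → F))] [DecidableEq (ℙ F (Fin 3 → F))]
    (g : Matrix.ProjectiveSpecialLinearGroup (Fin 3) F) :
    MulAction.toPermHom _ (ℙ F (Fin 3 → F)) g ∈ setSystemAut (pgLines F) := by
  classical
  have key : ∀ (g : Matrix.ProjectiveSpecialLinearGroup (Fin 3) F), ∀ S ∈ pgLines F,
      (MulAction.toPermHom _ (ℙ F (Fin 3 → F)) g) • S ∈ pgLines F := by
    intro g S hS
    obtain ⟨g, rfl⟩ := QuotientGroup.mk_surjective g
    obtain ⟨W, hW, hmem⟩ := hS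
    let f : (Fin 3 → F) ≃ₗ[F] (Fin 3 → F) := g.toLin'_equiv.1
    refine ⟨W.map f.toLinearMap, (LinearEquiv.finrank_map_eq f W).trans hW, fun P => ?_⟩
    rw [smul_finset_eq_image, Finset.mem_image]
    have hmk : ∀ (v : Fin 3 → F) (hv : v ≠ 0),
        (g : Matrix.ProjectiveSpecialLinearGroup (Fin 3) F) • Projectivization.mk F v hv =
          Projectivization.mk F (f v) (by simpa using hv) := fun v hv => rfl
    induction P using Projectivization.ind with | h v hv =>
    rw [Projectivization.submodule_mk, Submodule.span_singleton_le_iff_mem, Submodule.mem_map]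
    constructor
    · rintro ⟨Q, hQ, he⟩
      induction Q using Projectivization.ind with | h w hw =>
      rw [hmem, Projectivization.submodule_mk, Submodule.span_singleton_le_iff_mem] at hQ
      rw [MulAction.toPermHom_apply, MulAction.toPerm_apply, hmk] at he
      obtain ⟨a, ha⟩ := (Projectivization.mk_eq_mk_iff' F _ _ _ _).1 he.symm
      exact ⟨a • w, W.smul_mem a hQ, by rw [← ha]; exact map_smul f a w⟩
    · rintro ⟨w, hw, rfl⟩
      have hw0 : w ≠ 0 := fun e => hv (by simp [e])
      refine ⟨Projectivization.mk F w hw0, ?_, ?_⟩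
      · rw [hmem, Projectivization.submodule_mk, Submodule.span_singleton_le_iff_mem]; exact hw
      · rw [MulAction.toPermHom_apply, MulAction.toPerm_apply, hmk]; rfl
  rw [MulAction.mem_stabilizer_iff]
  refine Set.Subset.antisymm ?_ fun S hS => ?_
  · rintro _ ⟨S, hS, rfl⟩
    exact key g S hS
  · refine ⟨_, key g⁻¹ S hS, ?_⟩
    show MulAction.toPermHom _ _ g • (MulAction.toPermHom _ _ g⁻¹ • S) = S
    rw [map_inv, smul_inv_smul]

theorem psl_card (hF : Fintype.card F = 4) :
    Nat.card (Matrix.ProjectiveSpecialLinearGroup (Fin 3) F) = 20160 := by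
  have h1 := Classical.card_psl_mul (ι := Fin 3) (F := F)
  have h2 := Classical.card_sl_mul hF 3 (by norm_num)
  rw [Fintype.card_fin, hF, show Nat.gcd 3 (4 - 1) = 3 from rfl] at h1
  simp [Fin.prod_univ_three] at h2
  omega

/-- groups of order 20160 acting faithfully on a plane of order four -/
theorem iso_psl (hF : Fintype.card F = 4) {G : Type*} [Group G] (hα : Fintype.card α = 21)
    (hL : IsSteinerSystem 2 5 L) (φ : G →* Equiv.Perm α) (hφ : Function.Injective φ)
    (hφL : ∀ g, φ g ∈ setSystemAut L) (hG : Nat.card G = 20160) :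
    Nonempty (G ≃* Matrix.ProjectiveSpecialLinearGroup (Fin 3) F) := by
  classical
  let _ : Fintype (ℙ F (Fin 3 → F)) := Fintype.ofFinite _
  obtain ⟨e, he⟩ := S5626.result (by rw [← Nat.card_eq_fintype_card]; exact pg_card hF) hα
    (pg_steiner hF) hL
  let ψ : Matrix.ProjectiveSpecialLinearGroup (Fin 3) F →* Equiv.Perm α :=
    e.permCongrHom.toMonoidHom.comp (MulAction.toPermHom _ (ℙ F (Fin 3 → F)))
  have hψ : Function.Injective ψ :=
    e.permCongrHom.injective.comp MulAction.toPerm_injective
  have hψL : ∀ g, ψ g ∈ setSystemAut L := by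
    intro g
    have hg := MulAction.mem_stabilizer_iff.1 (pg_action g)
    have himg : ∀ S : Finset (ℙ F (Fin 3 → F)),
        ψ g • S.image e = (MulAction.toPermHom _ _ g • S).image e := fun S => by
      rw [smul_finset_eq_image, smul_finset_eq_image, Finset.image_image, Finset.image_image]
      congr 1
      funext x
      simp [ψ, Equiv.permCongrHom]
    rw [MulAction.mem_stabilizer_iff, ← he, ← Set.image_smul, Set.image_image]
    conv_rhs => rw [← hg, ← Set.image_smul, Set.image_image]
    simp only [himg]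
  set N₁ := ψ.range
  set N₂ := φ.range
  have c1 : Nat.card N₁ = 20160 := by
    rw [← Nat.card_congr (MonoidHom.ofInjective hψ).toEquiv, psl_card hF]
  have c2 : Nat.card N₂ = 20160 := by rw [← Nat.card_congr (MonoidHom.ofInjective hφ).toEquiv, hG]
  have : IsSimpleGroup (Matrix.ProjectiveSpecialLinearGroup (Fin 3) F) :=
    Classical.isSimpleGroup_psl (Or.inl (by simp))
  have : IsSimpleGroup ↥N₁ := MulEquiv.isSimpleGroup (MonoidHom.ofInjective hψ).symm
  have e12 := eq_of_simple (A := setSystemAut L) (N₁ := N₁) (N₂ := N₂)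
    (by rintro _ ⟨g, rfl⟩; exact hψL g) (by rintro _ ⟨g, rfl⟩; exact hφL g) c1 c2 (card_aut_le hα hL)
  exact ⟨(MonoidHom.ofInjective hφ).trans
    ((MulEquiv.subgroupCongr e12.symm).trans (MonoidHom.ofInjective hψ).symm)⟩

end Cfsg.Agent.Plane4
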